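import Cfsg.Agent.Lib.Blocks.Watanabe.Trace

/-!
# An element of the defect group fixed by the inertial quotient

For an abelian defect group, the local ranks do not change when an element fixed by the stabilizer
of the maximal pair is adjoined.
-/

set_option autoImplicit false

namespace CfsgLib.Watanabe

open Cfsg CfsgLib.Blocks CfsgLib.Pairs
open scoped Classical

universe u

variable {p : ℕ} [Fact p.Prime] {M : Ideal AlgInt} [M.IsPrime]

theorem zpowers_subgroupOf {G : Type u} [Group G] {K : Subgroup G} (v : K) :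
    (Subgroup.zpowers (v : G)).subgroupOf K = Subgroup.zpowers v := by
  refine Subgroup.map_injective K.subtype_injective ?_
  rw [Subgroup.map_subgroupOf_eq_of_le (Subgroup.zpowers_le.2 v.2), MonoidHom.map_zpowers]
  rfl

/-- A nontrivial character of a finite abelian `p`-group, invariant under the automorphisms of
order prime to `p`, trivial on a subgroup of fixed elements. -/
theorem exists_invariant_char {A : Type*} [CommGroup A] [Finite A] (S : Subgroup (MulAut A))
    (hcop : (Nat.card S).Coprime (Nat.card A)) (Z : Subgroup A) {a : A}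
    (hZ : ∀ z ∈ Z, ∀ σ ∈ S, σ z = z) (ha : ∀ σ ∈ S, σ a = a) (haZ : a ∉ Z) :
    ∃ lam : A →* ℂˣ, (∀ σ ∈ S, ∀ x, lam (σ x) = lam x) ∧ (∀ z ∈ Z, lam z = 1) ∧ lam a ≠ 1 := by
  have := Fintype.ofFinite S
  let N : A →* A := ∏ σ : S, (σ : MulAut A).toMonoidHom
  have hN : ∀ x, N x = ∏ σ : S, (σ : MulAut A) x := fun x => by
    simp [N]
  have hfix : ∀ x, (∀ σ ∈ S, σ x = x) → N x = x ^ Nat.card S := fun x hx => by
    rw [hN, Finset.prod_congr rfl fun σ _ => hx σ.1 σ.2, Finset.prod_const, Finset.card_univ,
      Nat.card_eq_fintype_card]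
  have hinv : ∀ σ ∈ S, ∀ x, N (σ x) = N x := fun σ hσ x => by
    rw [hN, hN]
    exact Fintype.prod_equiv (Equiv.mulRight (⟨σ, hσ⟩ : S)) _ _ fun τ => rfl
  have hne : (QuotientGroup.mk (N a) : A ⧸ Z) ≠ 1 := by
    rw [Ne, QuotientGroup.eq_one_iff, hfix a ha]
    intro h
    refine haZ ?_
    obtain ⟨i, hi⟩ := exists_pow_eq_self_of_coprime
      (n := Nat.card S) (x := a) (hcop.coprime_dvd_right (orderOf_dvd_natCard a))
    rw [← hi]
    exact Z.pow_mem h i
  obtain ⟨φ, hφ⟩ := CommGroup.exists_apply_ne_one_of_hasEnoughRootsOfUnity (A ⧸ Z) ℂ hne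
  refine ⟨φ.comp ((QuotientGroup.mk' Z).comp N), fun σ hσ x => ?_, fun z hz => ?_, hφ⟩
  · simp only [MonoidHom.comp_apply, hinv σ hσ x]
  · simp only [MonoidHom.comp_apply, hfix z (hZ z hz)]
    rw [show QuotientGroup.mk' Z (z ^ Nat.card S) = 1 from
      (QuotientGroup.eq_one_iff _).2 (Z.pow_mem hz _), map_one]

/-- **Watanabe**: local ranks are unchanged on adjoining an element fixed by the stabilizer. -/
theorem localRank_sup_fixed_aux (n : ℕ) : ∀ {G : Type u} [Group G] [Fintype G], Nat.card G = n →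
    IsPModular p M → ∀ {B : Set (IrrCharacter G)} {P : Subgroup G}
      {c : Set (IrrCharacter (Subgroup.centralizer (P : Set G)))},
      IsMaximalBrauerPair p M B P c → (∀ x ∈ P, ∀ y ∈ P, x * y = y * x) →
      ∀ {u : G}, u ∈ P → (∀ t ∈ pairStab P c, t * u * t⁻¹ = u) →
      ∀ v ∈ P, localRank p M P c (Subgroup.zpowers v) =
        localRank p M P c (Subgroup.zpowers u ⊔ Subgroup.zpowers v) := by
  induction n using Nat.strong_induction_on with
  | _ n IH =>
  intro G _ _ hn hM B P c hmax hab u hu huT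
  -- the induction step at a noncentral element
  have hstep : ∀ v ∈ P, Subgroup.centralizer ((Subgroup.zpowers v : Subgroup G) : Set G) ≠ ⊤ →
      localRank p M P c (Subgroup.zpowers v) =
        localRank p M P c (Subgroup.zpowers u ⊔ Subgroup.zpowers v) := by
    intro v hv hv'
    have hvP : Subgroup.zpowers v ≤ P := Subgroup.zpowers_le.2 hv
    have hPK : P ≤ Subgroup.centralizer ((Subgroup.zpowers v : Subgroup G) : Set G) :=
      le_centralizer_of_abelian hmax hab hvP
    obtain ⟨f, a, -, haP, hamax, hstab, -, hR⟩ := local_setting hM hmax hab hvP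
    have hlt : Nat.card (Subgroup.centralizer
        ((Subgroup.zpowers v : Subgroup G) : Set G)) < n := by
      rw [← hn]
      exact (Subgroup.card_le_card_group _).lt_of_ne fun h => hv' (Subgroup.eq_top_of_card_eq _ h)
    have haab : ∀ x ∈ a.1, ∀ y ∈ a.1, x * y = y * x := by
      rw [haP]
      exact fun x hx y hy => Subtype.ext (hab _ hx _ hy)
    have hu' : (⟨u, hPK hu⟩ :
        Subgroup.centralizer ((Subgroup.zpowers v : Subgroup G) : Set G)) ∈ a.1 := by
      rw [haP]
      exact hu
    have h := IH _ hlt rfl hM hamax haab hu'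
      (fun t ht => Subtype.ext (huT _ ((hstab t).1 ht))) 1 (one_mem _)
    rw [Subgroup.zpowers_one_eq_bot, sup_bot_eq, ← Subgroup.bot_subgroupOf,
      ← zpowers_subgroupOf, hR _ bot_le, hR _ (Subgroup.zpowers_le.2 hu), sup_bot_eq,
      sup_comm] at h
    exact h
  by_cases hcen : Subgroup.centralizer ((Subgroup.zpowers u : Subgroup G) : Set G) = ⊤
  · -- a central element changes nothing
    intro v hv
    refine localRank_eq_of_centralizer_eq hM hmax hab le_sup_right
      (sup_le (Subgroup.zpowers_le.2 hu) (Subgroup.zpowers_le.2 hv)) (le_antisymm (fun g hg => ?_)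
        (centralizer_le_of_le le_sup_right))
    refine Subgroup.mem_centralizer_iff.2 fun w hw => ?_
    have hle : Subgroup.zpowers u ⊔ Subgroup.zpowers v ≤ Subgroup.centralizer ({g} : Set G) := by
      refine sup_le (fun z hz => ?_) fun z hz => ?_
      · exact Subgroup.mem_centralizer_singleton_iff.2 (Subgroup.mem_centralizer_iff.1
          (show g ∈ Subgroup.centralizer ((Subgroup.zpowers u : Subgroup G) : Set G) by
            rw [hcen]; trivial) z hz)
      · exact Subgroup.mem_centralizer_singleton_iff.2 (Subgroup.mem_centralizer_iff.1 hg z hz)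
    exact Subgroup.mem_centralizer_singleton_iff.1 (hle hw)
  obtain ⟨fK, a, -, haP, hamax, hstab, -, hR⟩ :=
    local_setting hM hmax hab (Subgroup.zpowers_le.2 hu)
  have hPK : P ≤ Subgroup.centralizer ((Subgroup.zpowers u : Subgroup G) : Set G) :=
    le_centralizer_of_abelian hmax hab (Subgroup.zpowers_le.2 hu)
  have hTK : pairStab P c ≤ Subgroup.centralizer ((Subgroup.zpowers u : Subgroup G) : Set G) :=
      fun t ht => by
    rw [Subgroup.zpowers_eq_closure, Subgroup.centralizer_closure,
      Subgroup.mem_centralizer_singleton_iff]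
    exact mul_inv_eq_iff_eq_mul.1 (huT t ht)
  have haab : ∀ x ∈ a.1, ∀ y ∈ a.1, x * y = y * x := by
    rw [haP]
    exact fun x hx y hy => Subtype.ext (hab _ hx _ hy)
  have := Fintype.ofFinite P
  have := Fintype.ofFinite a.1
  let e : a.1 ≃* P := (MulEquiv.subgroupCongr haP).trans (Subgroup.subgroupOfEquivOfLe hPK)
  have he : ∀ z : a.1, ((e z : P) : G) = ((z : Subgroup.centralizer ((Subgroup.zpowers u : Subgroup G) : Set G)) : G) := fun z => rfl
  have horb : ∀ z : a.1, orbitSize a.1 a.2 (z : Subgroup.centralizer ((Subgroup.zpowers u : Subgroup G) : Set G)) = orbitSize P c ((e z : P) : G) := by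
    intro z
    refine Nat.card_congr (Equiv.subtypeEquiv e.toEquiv fun w => ⟨?_, ?_⟩)
    · rintro ⟨t, ht, htw⟩
      exact ⟨t, (hstab t).1 ht, congrArg Subtype.val htw⟩
    · rintro ⟨t, ht, htw⟩
      exact ⟨⟨t, hTK ht⟩, (hstab _).2 ht, Subtype.ext htw⟩
  let δ : P → ℂ := fun v => (localRank p M P c (Subgroup.zpowers (v : G)) : ℂ) -
    (localRank p M P c (Subgroup.zpowers u ⊔ Subgroup.zpowers (v : G)) : ℂ)
  -- a character separating `u` from the central elements
  letI : CommGroup P := { (inferInstance : Group P) with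
    mul_comm := fun x y => Subtype.ext (hab _ x.2 _ y.2) }
  have hF := isBlockFusionSystemOn_blockFusion hM hmax
  have hsat := isSaturated_of_isBlockFusionSystemOn hF hM
  let Z : Subgroup P := (Subgroup.center G).subgroupOf P
  have hZtop : ∀ {v : G}, v ∈ Subgroup.center G ↔
      Subgroup.centralizer ((Subgroup.zpowers v : Subgroup G) : Set G) = ⊤ := by
    intro v
    rw [Subgroup.zpowers_eq_closure, Subgroup.centralizer_closure,
      Subgroup.centralizer_eq_top_iff_subset, Set.singleton_subset_iff]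
    rfl
  have haut : ∀ σ ∈ (blockFusion hM hmax).autGroup P, ∃ t ∈ pairStab P c,
      ∀ x : P, ((σ x : P) : G) = t * (x : G) * t⁻¹ := fun σ hσ =>
    CfsgLib.Fusion.mem_autInducedBy_iff.1
      ((mem_autGroup_iff_pairStab hF hM (Q := P) (f := c) Relation.ReflTransGen.refl).1 hσ)
  obtain ⟨lam, hinv, hlamZ, hlamu⟩ := exists_invariant_char ((blockFusion hM hmax).autGroup P)
    (CfsgLib.Fusion.coprime_card_autGroup hmax.1.1.1 hsat hab) Z (a := ⟨u, hu⟩)
    (fun z hz σ hσ => by
      obtain ⟨t, -, htx⟩ := haut σ hσ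
      refine Subtype.ext ?_
      rw [htx, Subgroup.mem_center_iff.1 (show (z : G) ∈ Subgroup.center G from hz) t,
        mul_inv_cancel_right])
    (fun σ hσ => by
      obtain ⟨t, ht, htx⟩ := haut σ hσ
      refine Subtype.ext ?_
      rw [htx]
      exact huT t ht)
    (fun h => hcen (hZtop.1 h))
  have hlamInv : IsInvariantLin P c lam := by
    intro t ht x y hxy
    let σ : MulAut P := conjEquiv P P t (mem_normalizer_conj ht.1)
    have hσ : σ ∈ (blockFusion hM hmax).autGroup P :=
      (mem_autGroup_iff_pairStab hF hM (Q := P) (f := c) Relation.ReflTransGen.refl).2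
        (CfsgLib.Fusion.mem_autInducedBy_iff.2 ⟨t, ht, fun z => rfl⟩)
    have hy : y = σ x := Subtype.ext hxy.symm
    rw [hy, hinv σ hσ x]
  have hlamne : lam ≠ 1 := fun h => hlamu (by rw [h]; rfl)
  -- compare the two weighted sums
  have hsum : ∑ v : P, ((lam v : ℂˣ) : ℂ) * δ v / (orbitSize P c (v : G) : ℂ) = 0 := by
    have h1 := sum_eq_zero hM hmax hab hlamInv hlamne
    have h2 := sum_eq_zero hM hamax haab (lam := lam.comp e.toMonoidHom)
      (fun t ht x y hxy => hlamInv t ((hstab t).1 ht) (e x) (e y) (congrArg Subtype.val hxy))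
      (fun h => hlamne (MonoidHom.ext fun v => by
        obtain ⟨z, rfl⟩ := e.surjective v
        exact DFunLike.congr_fun h z))
    rw [Fintype.sum_equiv e.toEquiv _ (fun v : P => ((lam v : ℂˣ) : ℂ) *
      (localRank p M P c (Subgroup.zpowers u ⊔ Subgroup.zpowers (v : G)) : ℂ) /
        (orbitSize P c (v : G) : ℂ)) fun z => ?_] at h2
    · simp only [δ, mul_sub, sub_div, Finset.sum_sub_distrib, h1, h2, sub_self]
    · rw [horb, ← zpowers_subgroupOf, ← he z,
        hR _ (Subgroup.zpowers_le.2 (e z).2)]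
      rfl
  have hδc : ∀ v : P, v ∈ Z → δ v = δ 1 := by
    intro v hv
    have hC : Subgroup.centralizer ((Subgroup.zpowers (v : G) : Subgroup G) : Set G) = ⊤ := hZtop.1 hv
    simp only [δ, Subgroup.coe_one, Subgroup.zpowers_one_eq_bot, sup_bot_eq]
    have hbot : Subgroup.centralizer (((⊥ : Subgroup G)) : Set G) =
        Subgroup.centralizer ((Subgroup.zpowers (v : G) : Subgroup G) : Set G) := by
      rw [hC]
      refine eq_top_iff.2 fun g _ => Subgroup.mem_centralizer_iff.2 fun y hy => ?_
      rw [SetLike.mem_coe, Subgroup.mem_bot] at hy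
      simp [hy]
    rw [← localRank_eq_of_centralizer_eq hM hmax hab (R := ⊥) bot_le (Subgroup.zpowers_le.2 v.2)
        hbot,
      ← localRank_eq_of_centralizer_eq hM hmax hab (R := Subgroup.zpowers u) le_sup_left
        (sup_le (Subgroup.zpowers_le.2 hu) (Subgroup.zpowers_le.2 v.2)) (le_antisymm
          (fun g hg => Subgroup.mem_centralizer_iff.2 fun w hw => ?_)
          (centralizer_le_of_le le_sup_left))]
    have hle : Subgroup.zpowers u ⊔ Subgroup.zpowers (v : G) ≤
        Subgroup.centralizer ({g} : Set G) := by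
      refine sup_le (fun z hz => ?_) fun z hz => ?_
      · exact Subgroup.mem_centralizer_singleton_iff.2 (Subgroup.mem_centralizer_iff.1 hg z hz)
      · exact Subgroup.mem_centralizer_singleton_iff.2 (Subgroup.mem_centralizer_iff.1
          (show g ∈ Subgroup.centralizer ((Subgroup.zpowers (v : G) : Subgroup G) : Set G) by
            rw [hC]; trivial) z hz)
    exact Subgroup.mem_centralizer_singleton_iff.1 (hle hw)
  have hterm : ∀ v : P, ((lam v : ℂˣ) : ℂ) * δ v / (orbitSize P c (v : G) : ℂ) =
      if v ∈ Z then δ 1 else 0 := by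
    intro v
    by_cases hv : v ∈ Z
    · have ho : orbitSize P c (v : G) = 1 := by
        rw [orbitSize, Nat.card_eq_one_iff_unique]
        refine ⟨⟨fun x y => Subtype.ext ?_⟩, ⟨⟨v, 1, one_mem _, by simp⟩⟩⟩
        have hx : ∀ x : {w : P // ∃ t ∈ pairStab P c, t * (v : G) * t⁻¹ = (w : G)}, x.1 = v := by
          rintro ⟨w, t, -, htw⟩
          refine Subtype.ext ?_
          rw [← htw, Subgroup.mem_center_iff.1 (show (v : G) ∈ Subgroup.center G from hv) t,
            mul_inv_cancel_right]
        rw [hx, hx]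
      rw [if_pos hv, hlamZ v hv, Units.val_one, one_mul, ho, Nat.cast_one, div_one, hδc v hv]
    · rw [if_neg hv, show δ v = 0 from sub_eq_zero.2
        (congrArg Nat.cast (hstep v v.2 fun h => hv (hZtop.2 h))), mul_zero, zero_div]
  have hδ : δ 1 = 0 := by
    rw [Finset.sum_congr rfl fun v _ => hterm v, ← Finset.sum_filter, Finset.sum_const,
      nsmul_eq_mul, mul_eq_zero] at hsum
    refine hsum.resolve_left (Nat.cast_ne_zero.2 (Finset.card_ne_zero.2 ⟨1, ?_⟩))
    exact Finset.mem_filter.2 ⟨Finset.mem_univ _, one_mem Z⟩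
  intro v hv
  by_cases hvZ : v ∈ Subgroup.center G
  · have h := hδc ⟨v, hv⟩ hvZ
    rw [hδ] at h
    exact_mod_cast sub_eq_zero.1 h
  · exact hstep v hv fun h => hvZ (hZtop.2 h)

theorem localRank_sup_fixed {G : Type u} [Group G] [Fintype G] (hM : IsPModular p M)
    {B : Set (IrrCharacter G)} {P : Subgroup G}
    {c : Set (IrrCharacter (Subgroup.centralizer (P : Set G)))}
    (hmax : IsMaximalBrauerPair p M B P c) (hab : ∀ x ∈ P, ∀ y ∈ P, x * y = y * x)
    {u : G} (hu : u ∈ P) (huT : ∀ t ∈ pairStab P c, t * u * t⁻¹ = u) {v : G} (hv : v ∈ P) :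
    localRank p M P c (Subgroup.zpowers v) =
      localRank p M P c (Subgroup.zpowers u ⊔ Subgroup.zpowers v) :=
  localRank_sup_fixed_aux _ rfl hM hmax hab hu huT v hv

end CfsgLib.Watanabe
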