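import Cfsg.Agent.Lib.Blocks.TopBlock
import Cfsg.Agent.Lib.Pairs.AbelianLocal
import Cfsg.Agent.Lib.Blocks.Star.Stab

/-!
# Ranks of the blocks below a maximal pair on an abelian group

For a maximal pair `(P, c)` with `P` abelian, `localRank P c Q` is the rank of the block of
`C(Q)` below it.  Inside `C(Q)` the local rank at `R` is the local rank at `Q ⊔ R`.
-/

set_option autoImplicit false

namespace CfsgLib.Watanabe

open Cfsg CfsgLib.Blocks CfsgLib.Pairs MonoidAlgebra
open scoped Classical

variable {G : Type*} [Group G] [Fintype G] {M : Ideal AlgInt} [M.IsPrime] {p : ℕ} [Fact p.Prime]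

omit [Fintype G] [M.IsPrime] [Fact p.Prime] in
theorem blockRank_mapBlock {K L : Type*} [Group K] [Group L] (e : K ≃* L)
    (B : Set (IrrCharacter L)) : blockRank p (mapBlock e B) = blockRank p B :=
  blockRank_image_pullEquiv p e B

/-- The rank of the block of `C(Q)` below the pair `(P, c)`. -/
noncomputable def localRank (p : ℕ) (M : Ideal AlgInt) (P : Subgroup G)
    (c : Set (IrrCharacter (Subgroup.centralizer (P : Set G)))) (Q : Subgroup G) : ℕ :=
  if h : ∃ f, SubpairLE p M Q f P c then blockRank p h.choose else 0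

theorem localRank_eq (hM : IsPModular p M) {P Q : Subgroup G}
    {c : Set (IrrCharacter (Subgroup.centralizer (P : Set G)))} (hPc : IsBrauerPair p M P c)
    {f : Set (IrrCharacter (Subgroup.centralizer (Q : Set G)))} (hle : SubpairLE p M Q f P c) :
    localRank p M P c Q = blockRank p f := by
  have h : ∃ f, SubpairLE p M Q f P c := ⟨f, hle⟩
  rw [localRank, dif_pos h,
    (unique_below hM (Nat.card P) (Nat.sub_le _ _) hPc).2 _ _ h.choose_spec hle]

/-- Normal pairs on subgroups with the same centralizer have the same rank. -/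
theorem blockRank_eq_of_centralizer_eq {R S : Subgroup G}
    {g : Set (IrrCharacter (Subgroup.centralizer (R : Set G)))}
    {f : Set (IrrCharacter (Subgroup.centralizer (S : Set G)))}
    (hn : IsNormalSubpair p M R g S f)
    (hC : Subgroup.centralizer (R : Set G) = Subgroup.centralizer (S : Set G)) :
    blockRank p g = blockRank p f := by
  obtain ⟨hg, hf, -, -, -, hval⟩ := isNormalSubpair_iff.1 hn
  let φ : Subgroup.centralizer (R : Set G) ≃* Subgroup.centralizer (S : Set G) :=
    MulEquiv.subgroupCongr hC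
  obtain ⟨ξ, hξ⟩ := IsPBlock.nonempty hf.2
  have h1 : omegaBar (mapIrr φ ξ) (blockIdemBar M g) =
      omegaBar ξ (resC S (subIdem M (Subgroup.centralizer (R : Set G)) g)) :=
    omegaBar_comp φ ξ (isCentralElt_blockIdemBar hg.2) _ fun k => by
      rw [coeff_resC, show ((φ k : Subgroup.centralizer (S : Set G)) : G) = (k : G) from rfl,
        subIdem, coeff_inclElt]
  have h2 := hval ξ hξ
  rw [pairVal, ← h1, omegaBar_blockIdemBar hg.2] at h2
  have h3 : mapIrr φ ξ ∈ g := by
    by_contra h
    rw [if_neg h] at h2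
    exact zero_ne_one h2
  have h4 : g = mapBlock φ f := by
    rw [IsPBlock.eq_blockOf hg.2 h3,
      IsPBlock.eq_blockOf (isPBlock_mapBlock φ hf.2) (χ := mapIrr φ ξ) ⟨ξ, hξ, rfl⟩]
  rw [h4, blockRank_mapBlock]

variable (hM : IsPModular p M) {B : Set (IrrCharacter G)} {P : Subgroup G}
  {c : Set (IrrCharacter (Subgroup.centralizer (P : Set G)))}
  (hmax : IsMaximalBrauerPair p M B P c)
include hM hmax

theorem exists_localRank {Q : Subgroup G} (hQP : Q ≤ P) :
    ∃ f, SubpairLE p M Q f P c ∧ IsBrauerPairOf p M B Q f ∧ localRank p M P c Q = blockRank p f := by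
  obtain ⟨f, ⟨hf, hle⟩, -⟩ := existsUnique_below hM hmax.1.1 hQP
  exact ⟨f, hle, (subpairLE_pairOf_iff hM (a := ⟨Q, f⟩) hle B).1 hmax.1,
    localRank_eq hM hmax.1.1 hle⟩

theorem localRank_bot : localRank p M P c ⊥ = blockRank p B := by
  obtain ⟨f, -, hfB, hr⟩ := exists_localRank hM hmax (bot_le : ⊥ ≤ P)
  rw [hr]
  have h : ∀ (Z : Subgroup G) (f : Set (IrrCharacter (Subgroup.centralizer (Z : Set G)))),
      Z = Subgroup.zpowers (1 : G) → IsBrauerPairOf p M B Z f → blockRank p f = blockRank p B := by
    rintro Z f rfl hfB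
    have htop : Subgroup.centralizer ((Subgroup.zpowers (1 : G)) : Set G) = ⊤ :=
      eq_top_iff.2 fun g _ => Subgroup.mem_centralizer_iff.2 fun y hy => by
        rw [SetLike.mem_coe, Subgroup.zpowers_one_eq_bot, Subgroup.mem_bot] at hy
        simp [hy]
    have h1 := sum_blockRank_centralizer_one p hfB.2.1 _ htop
    rw [show {b : Set (IrrCharacter (Subgroup.centralizer ((Subgroup.zpowers (1 : G)) : Set G))) |
        IsInducedBlock M (Subgroup.centralizer ((Subgroup.zpowers (1 : G)) : Set G)) b B} = {f} from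
      Set.Subsingleton.eq_singleton_of_mem ?_ (CfsgLib.Star.isInducedBlock_of_pairOf hM hfB),
      finsum_mem_singleton] at h1
    · exact h1
    · have key : ∀ (H : Subgroup G), H = ⊤ → {b : Set (IrrCharacter H) |
          IsInducedBlock M H b B}.Subsingleton := by
        rintro H rfl a ha b hb
        exact ((isInducedBlock_top_iff hfB.2.1).1 ha).trans
          ((isInducedBlock_top_iff hfB.2.1).1 hb).symm
      exact key _ htop
  exact h ⊥ f Subgroup.zpowers_one_eq_bot.symm hfB

variable (hab : ∀ x ∈ P, ∀ y ∈ P, x * y = y * x)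
include hab

/-- Two subgroups of `P` with the same centralizer have the same local rank. -/
theorem localRank_eq_of_centralizer_eq {R S : Subgroup G} (hRS : R ≤ S) (hS : S ≤ P)
    (hC : Subgroup.centralizer (R : Set G) = Subgroup.centralizer (S : Set G)) :
    localRank p M P c R = localRank p M P c S := by
  obtain ⟨f, hle, hfB, hf⟩ := exists_localRank hM hmax hS
  obtain ⟨g, hg, -⟩ := existsUnique_normalSubpair hM hfB.1 hRS
    ((hS.trans (le_centralizer_of_abelian hmax hab (hRS.trans hS))).trans
      (centralizer_le_normalizer' R))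
  rw [hf, localRank_eq hM hmax.1.1 (Relation.ReflTransGen.head
    (show NormalSubpairRel p M ⟨R, g⟩ ⟨S, f⟩ from hg) hle)]
  exact blockRank_eq_of_centralizer_eq hg hC

/-- The block below `(P, c)` in the centralizer of `Q ≤ P`, with its maximal pair. -/
theorem local_setting {Q : Subgroup G} (hQP : Q ≤ P) :
    ∃ (f : Set (IrrCharacter (Subgroup.centralizer (Q : Set G))))
      (a : BrauerPairIdx (Subgroup.centralizer (Q : Set G))),
      SubpairLE p M Q f P c ∧ a.1 = P.subgroupOf (Subgroup.centralizer (Q : Set G)) ∧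
      IsMaximalBrauerPair p M f a.1 a.2 ∧
      (∀ z : Subgroup.centralizer (Q : Set G), z ∈ pairStab a.1 a.2 ↔ (z : G) ∈ pairStab P c) ∧
      (∀ f', IsInducedBlockIn M (Subgroup.centralizer (Q : Set G))
        (Subgroup.centralizer (P : Set G)) c f' → f' = f) ∧
      ∀ R : Subgroup G, R ≤ P →
        localRank p M a.1 a.2 (R.subgroupOf (Subgroup.centralizer (Q : Set G))) =
          localRank p M P c (Q ⊔ R) := by
  have hPC := le_centralizer_of_abelian hmax hab hQP
  have hCC : Subgroup.centralizer (P : Set G) ≤ Subgroup.centralizer (Q : Set G) :=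
    centralizer_le_of_le hQP
  obtain ⟨f₀, hf₀, hle⟩ := exists_below hM (Nat.card P) (Nat.sub_le _ _) hmax.1.1 hQP
  have hn : IsNormalSubpair p M Q f₀ P c :=
    (unique_below hM (Nat.card P) (Nat.sub_le _ _) hmax.1.1).1 f₀ hle
      (hPC.trans (centralizer_le_normalizer' Q))
  obtain ⟨a, ha⟩ := exists_samePair_down (b := (⟨P, c⟩ : BrauerPairIdx G)) hPC hCC
  have hco : ∀ k : Subgroup.centralizer (Q : Set G), blockCoeff f₀ k =
      subgroupBlockCoeff (Subgroup.centralizer (Q : Set G)) f₀ (k : G) := fun k => by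
    unfold subgroupBlockCoeff
    rw [dif_pos k.2]
  have hpair : IsBrauerPairOf p M f₀ a.1 a.2 :=
    ⟨ha.brauerPair_iff.2 hn.2.1, hn.1.2, (ha.memLocalIdeal_iff hco).2 hn.2.2.2.2.2⟩
  have haP : a.1 = P.subgroupOf (Subgroup.centralizer (Q : Set G)) :=
    Subgroup.map_injective (Subgroup.centralizer (Q : Set G)).subtype_injective
      (ha.1.trans (Subgroup.map_subgroupOf_eq_of_le hPC).symm)
  have haab : ∀ x ∈ a.1, ∀ y ∈ a.1, x * y = y * x := by
    rw [haP]
    exact fun x hx y hy => Subtype.ext (hab _ hx _ hy)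
  have haC : a.1 ≤ Subgroup.centralizer (a.1 : Set (Subgroup.centralizer (Q : Set G))) :=
    fun x hx => Subgroup.mem_centralizer_iff.2 fun y hy => haab y hy x hx
  have hdef : IsDefectGroup p M f₀ a.1 := by
    have hfc : (blockFusion hM hmax).IsFullyCentralized Q := by
      refine ⟨hQP, fun R hR => ?_⟩
      have hRP : R ≤ P := CfsgLib.Fusion.isConj_le_right hR
      rw [CfsgLib.Fusion.centralizerIn_eq_self hab hQP, CfsgLib.Fusion.centralizerIn_eq_self hab hRP]
    have h := (isFullyCentralized_iff (isBlockFusionSystemOn_blockFusion hM hmax) hM hle).1 hfc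
    rwa [inf_eq_left.2 hPC, ← haP] at h
  have hamax := isMaximal_of_isDefectGroup hM hpair hdef
  refine ⟨f₀, a, hle, haP, hamax, fun z => ?_, fun f' hf' => ?_, fun R hR => ?_⟩
  · rw [mem_pairStab_iff_conjPair, mem_pairStab_iff_conjPair]
    constructor
    · intro h
      have h1 := ha.conj z
      rw [h] at h1
      exact h1.unique ha
    · intro h
      have h1 := ha.conj z
      rw [h] at h1
      exact h1.unique_down ha
  · rw [inducedIn_iff ha, inducedFromCent_iff hM hpair.1.1 haC hpair.1.2] at hf'
    exact (existsUnique_block hM hpair.1).unique hf' hpair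
  · set S := Q ⊔ R with hSdef
    have hS : S ≤ P := sup_le hQP hR
    have hSK : S ≤ Subgroup.centralizer (Q : Set G) := hS.trans hPC
    have hCS : Subgroup.centralizer (S : Set G) ≤ Subgroup.centralizer (Q : Set G) :=
      centralizer_le_of_le le_sup_left
    obtain ⟨fS, hfS, hleS⟩ := exists_below hM (Nat.card P) (Nat.sub_le _ _) hmax.1.1 hS
    have hnS : IsNormalSubpair p M S fS P c :=
      (unique_below hM (Nat.card P) (Nat.sub_le _ _) hmax.1.1).1 fS hleS
        ((le_centralizer_of_abelian hmax hab hS).trans (centralizer_le_normalizer' S))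
    obtain ⟨a', ha'⟩ := exists_samePair_down (b := (⟨S, fS⟩ : BrauerPairIdx G)) hSK hCS
    have hrel : NormalSubpairRel p M a' a := normal_same_down ha' ha hCS hnS
    have hR' : R.subgroupOf (Subgroup.centralizer (Q : Set G)) ≤ a'.1 := by
      intro z hz
      have hz' : (z : G) ∈ a'.1.map (Subgroup.centralizer (Q : Set G)).subtype := by
        rw [ha'.1]
        exact (le_sup_right : R ≤ S) hz
      obtain ⟨w, hw, hwz⟩ := hz'
      rwa [← Subgroup.subtype_injective _ hwz]
    obtain ⟨g, hg, -⟩ := existsUnique_normalSubpair hM hrel.1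
      hR' ((hrel.2.2.1.trans (le_centralizer_of_abelian hamax haab (hR'.trans hrel.2.2.1))).trans
        (centralizer_le_normalizer' _))
    rw [localRank_eq hM hamax.1.1 (Q := R.subgroupOf (Subgroup.centralizer (Q : Set G))) (f := g)
        ((Relation.ReflTransGen.single hrel).head hg),
      localRank_eq hM hmax.1.1 hleS, blockRank_eq_of_centralizer_eq hg ?_]
    · obtain ⟨-, φ, -, hm⟩ := ha'
      rw [← hm, blockRank_mapBlock]
    · refine le_antisymm (fun z hz => Subgroup.mem_centralizer_iff.2 fun w hw => ?_)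
        (centralizer_le_of_le hR')
      have hwS : (w : G) ∈ S := by
        have h := Subgroup.mem_map_of_mem (Subgroup.centralizer (Q : Set G)).subtype hw
        rwa [ha'.1] at h
      have hSz : S ≤ Subgroup.centralizer ({(z : G)} : Set G) := by
        refine sup_le (fun q hq => ?_) fun r hr => ?_
        · exact Subgroup.mem_centralizer_singleton_iff.2
            (Subgroup.mem_centralizer_iff.1 z.2 q hq)
        · exact Subgroup.mem_centralizer_singleton_iff.2 (congrArg Subtype.val
            (Subgroup.mem_centralizer_iff.1 hz ⟨r, hPC (hR hr)⟩ hr))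
      exact Subtype.ext (Subgroup.mem_centralizer_singleton_iff.1 (hSz hwS))

end CfsgLib.Watanabe
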