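import Cfsg.Agent.Lib.Blocks.Watanabe.Local
import Cfsg.Agent.Lib.Blocks.Star.Nilpotent
import Cfsg.Agent.Lib.Blocks.Star.Irr
import Cfsg.Agent.Lib.Pairs.Saturated
import Cfsg.Agent.Lib.Fusion.Abelian

/-!
# The trace of the product with an invariant linear character

For an abelian defect group `P` and a linear character `λ` of `P` invariant under the stabilizer
`T` of the maximal pair, the number of members of the block fixed by `χ ↦ λ * χ` is
`∑ v, λ v * l (v) / #(T-orbit of v)`; there are none when `λ ≠ 1`.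
-/

set_option autoImplicit false

namespace CfsgLib.Watanabe

open Cfsg CfsgLib.Blocks CfsgLib.Pairs CfsgLib.Star CfsgLib.Char MonoidAlgebra
open scoped Classical ComplexConjugate

variable {G : Type*} [Group G] [Fintype G] {M : Ideal AlgInt} [M.IsPrime] {p : ℕ} [Fact p.Prime]

/-- The number of elements of `P` conjugate to `v` under the stabilizer of `(P, c)`. -/
noncomputable def orbitSize (P : Subgroup G)
    (c : Set (IrrCharacter (Subgroup.centralizer (P : Set G)))) (v : G) : ℕ :=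
  Nat.card {w : P // ∃ t ∈ pairStab P c, t * v * t⁻¹ = (w : G)}

/-- A linear character of `P` is invariant under the stabilizer of `(P, c)`. -/
def IsInvariantLin (P : Subgroup G) (c : Set (IrrCharacter (Subgroup.centralizer (P : Set G))))
    (lam : P →* ℂˣ) : Prop :=
  ∀ t ∈ pairStab P c, ∀ x y : P, t * (x : G) * t⁻¹ = (y : G) → lam x = lam y

/-- A linear character of `P` as a function on `G`. -/
noncomputable def linExt (P : Subgroup G) (lam : P →* ℂˣ) : G → ℂ :=
  extP P fun x => ((lam x : ℂˣ) : ℂ)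

omit [Fintype G] in
theorem linExt_coe (P : Subgroup G) (lam : P →* ℂˣ) (x : P) :
    linExt P lam (x : G) = ((lam x : ℂˣ) : ℂ) := extP_coe P _ x

/-- The parts at a pair of `B` sum to the rank of the local block. -/
theorem sum_partInner (hM : IsPModular p M) {B : Set (IrrCharacter G)} {u : G}
    (hu : ∃ k : ℕ, orderOf u = p ^ k)
    {f : Set (IrrCharacter (Subgroup.centralizer (Subgroup.zpowers u : Set G)))}
    (hf : IsBrauerPairOf p M B (Subgroup.zpowers u) f) :
    ∑ χ ∈ (Set.toFinite B).toFinset, partInner p (χ : G → ℂ) (χ : G → ℂ) u ⟨Subgroup.zpowers u, f⟩ =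
      (Nat.card (Subgroup.centralizer (Subgroup.zpowers u : Set G)) : ℂ) * (blockRank p f : ℂ) := by
  have key : ∀ (H : Subgroup G), H = Subgroup.centralizer ({u} : Set G) →
      ∀ f : Set (IrrCharacter H), IsInducedBlock M H f B →
        ∑ χ ∈ (Set.toFinite B).toFinset, ∑ y ∈ Finset.univ.filter (fun y : H => ¬ p ∣ orderOf y),
          blockPart f (fun c : H => (χ : G → ℂ) (u * (c : G))) y *
            conj (blockPart f (fun c : H => (χ : G → ℂ) (u * (c : G))) y) =
          (Nat.card H : ℂ) * (blockRank p f : ℂ) := by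
    rintro H rfl f hf
    rw [← sum_block_blockPart_norm hM hu hf, finsum_mem_eq_finite_toFinset_sum _ (Set.toFinite B)]
    exact Finset.sum_congr rfl fun χ _ => Finset.sum_congr (by ext; simp) fun _ _ => rfl
  exact key _ (by rw [Subgroup.zpowers_eq_closure, Subgroup.centralizer_closure]) f
    (isInducedBlock_of_pairOf hM hf)

variable (hM : IsPModular p M) {B : Set (IrrCharacter G)} {P : Subgroup G}
  {c : Set (IrrCharacter (Subgroup.centralizer (P : Set G)))}
  (hmax : IsMaximalBrauerPair p M B P c) (hab : ∀ x ∈ P, ∀ y ∈ P, x * y = y * x)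
include hM hmax hab

/-- Fusion on an abelian defect group is induced by the stabilizer of the maximal pair. -/
theorem exists_stab {F : FusionSystem P} (hF : IsBlockFusionSystemOn p M B P c F) {Q : Subgroup G}
    {φ : Q →* G} (hφ : φ ∈ F.Hom Q) :
    ∃ t ∈ pairStab P c, ∀ z : Q, φ z = t * (z : G) * t⁻¹ := by
  obtain ⟨α, hα, hv⟩ := CfsgLib.Fusion.exists_autS hmax.1.1.1
    (isSaturated_of_isBlockFusionSystemOn hF hM) hab hφ
  obtain ⟨t, ht, htx⟩ := CfsgLib.Fusion.mem_autInducedBy_iff.1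
    ((mem_autGroup_iff_pairStab hF hM (Q := P) (f := c) Relation.ReflTransGen.refl).1 hα)
  exact ⟨t, ht, fun z => by rw [hv z, htx]⟩

theorem isFocalChar_linExt {F : FusionSystem P} (hF : IsBlockFusionSystemOn p M B P c F)
    {lam : P →* ℂˣ} (hlam : IsInvariantLin P c lam) : IsFocalChar F (linExt P lam) := by
  refine ⟨?_, fun x hx y hy => ?_, fun x hx hf => ?_⟩
  · rw [← Subgroup.coe_one P, linExt_coe, map_one, Units.val_one]
  · rw [linExt_coe P lam ⟨x, hx⟩, linExt_coe P lam ⟨y, hy⟩,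
      linExt_coe P lam ⟨x * y, P.mul_mem hx hy⟩, ← Units.val_mul, ← map_mul]
    rfl
  · have hle : F.focalSubgroup ≤ lam.ker.map P.subtype := by
      refine (Subgroup.closure_le _).2 ?_
      rintro y ⟨Q, φ, z, hφ, rfl⟩
      obtain ⟨hQ, hφP⟩ := F.le_of_mem hφ
      obtain ⟨t, ht, htz⟩ := exists_stab hM hmax hab hF hφ
      refine ⟨⟨z, hQ z.2⟩⁻¹ * ⟨φ z, hφP z⟩, MonoidHom.mem_ker.2 ?_, rfl⟩
      rw [map_mul, map_inv, hlam t ht ⟨z, hQ z.2⟩ ⟨φ z, hφP z⟩ (htz z).symm, inv_mul_cancel]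
    obtain ⟨w, hw, hwx⟩ := hle hf
    rw [← show (w : G) = x from hwx, linExt_coe, MonoidHom.mem_ker.1 hw, Units.val_one]

/-- Summing a conjugation invariant function over the Brauer elements of `B`. -/
theorem sum_brauerElts_stab [Fintype (BrauerPairIdx G)] [Fintype P]
    (H : G → BrauerPairIdx G → ℂ) (hconj : ∀ x u a, H (x * u * x⁻¹) (conjPair x a) = H u a)
    (b : P → BrauerPairIdx G) (hb1 : ∀ v, (b v).1 = Subgroup.zpowers (v : G))
    (hb2 : ∀ v, Relation.ReflTransGen (NormalSubpairRel p M) (b v) ⟨P, c⟩) :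
    ∑ t ∈ brauerElts p M B, H t.1 t.2 = (Nat.card G : ℂ) * ∑ v : P,
      ((Nat.card (Subgroup.centralizer ((b v).1 : Set G)) : ℂ) * orbitSize P c v)⁻¹ * H v (b v) := by
  have hF := isBlockFusionSystemOn_blockFusion hM hmax
  set E := brauerElts p M B with hE
  let Φ : G × P → G × BrauerPairIdx G := fun xv => (xv.1 * xv.2 * xv.1⁻¹, conjPair xv.1 (b xv.2))
  let w : P → ℂ := fun v =>
    ((Nat.card (Subgroup.centralizer ((b v).1 : Set G)) : ℂ) * orbitSize P c v)⁻¹
  have hrhs : (Nat.card G : ℂ) * ∑ v : P, w v * H v (b v) =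
      ∑ xv : G × P, w xv.2 * H (Φ xv).1 (Φ xv).2 := by
    rw [Fintype.sum_prod_type]
    simp only [Φ, hconj]
    rw [Finset.sum_const, Finset.card_univ, nsmul_eq_mul, ← Nat.card_eq_fintype_card]
  have hmaps : ∀ xv ∈ (Finset.univ : Finset (G × P)), Φ xv ∈ E := by
    intro xv _
    refine Finset.mem_filter.2 ⟨Finset.mem_univ _, ?_, ?_⟩
    · show (b xv.2).1.map _ = _
      rw [hb1, MonoidHom.map_zpowers]
      simp [Φ]
    · exact isBrauerPairOf_conjPair _ ((subpairLE_pairOf_iff hM (hb2 xv.2) B).1 hmax.1)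
  show _ = (Nat.card G : ℂ) * ∑ v : P, w v * H v (b v)
  rw [hrhs, ← Finset.sum_fiberwise_of_maps_to hmaps]
  refine Finset.sum_congr rfl fun t ht => ?_
  rw [Finset.sum_congr rfl (g := fun xv => w xv.2 * H t.1 t.2) fun xv hxv => by
    rw [(Finset.mem_filter.1 hxv).2], ← Finset.sum_mul]
  suffices h : ∑ xv ∈ Finset.univ.filter (fun xv => Φ xv = t), w xv.2 = 1 by rw [h, one_mul]
  obtain ⟨-, ht1, ht2⟩ := Finset.mem_filter.1 ht
  obtain ⟨u, a⟩ := t
  simp only at ht1 ht2
  obtain ⟨y, hy⟩ := exists_conj_le hM hmax ht2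
  have hv0 : y * u * y⁻¹ ∈ P := le_of_subpairLE hy ⟨u, ht1.symm ▸ Subgroup.mem_zpowers u, rfl⟩
  set v₀ : P := ⟨y * u * y⁻¹, hv0⟩ with hv₀
  have hbv₀ : conjPair y a = b v₀ := by
    refine eq_of_subpairLE hM hmax.1.1 hy (hb2 v₀) ?_
    rw [hb1]
    show a.1.map _ = _
    rw [ht1, MonoidHom.map_zpowers]
    simp [v₀]
  have hu : u = y⁻¹ * (v₀ : G) * y := by simp [v₀, mul_assoc]
  have ha : a = conjPair y⁻¹ (b v₀) := by rw [← hbv₀, ← conjPair_mul, inv_mul_cancel, conjPair_one]
  -- the elements in the orbit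
  have hmove : ∀ {v : P} {t : G}, t ∈ pairStab P c → t * (v₀ : G) * t⁻¹ = v →
      conjPair t (b v₀) = b v := by
    intro v t ht htv
    refine eq_of_subpairLE hM hmax.1.1 ?_ (hb2 v) ?_
    · have h := subpairLE_conjPair t (hb2 v₀)
      rwa [mem_pairStab_iff_conjPair.1 ht] at h
    · show (b v₀).1.map _ = _
      rw [hb1, hb1, MonoidHom.map_zpowers]
      simp [htv]
  have horb : ∀ {v : P} {t : G}, t ∈ pairStab P c → t * (v₀ : G) * t⁻¹ = v →
      orbitSize P c (v : G) = orbitSize P c (v₀ : G) := by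
    intro v t ht htv
    refine Nat.card_congr (Equiv.subtypeEquivRight fun z => ⟨?_, ?_⟩)
    · rintro ⟨s, hs, hsz⟩
      exact ⟨s * t, mul_mem hs ht, by rw [← hsz, ← htv]; group⟩
    · rintro ⟨s, hs, hsz⟩
      exact ⟨s * t⁻¹, mul_mem hs (inv_mem ht), by rw [← hsz, ← htv]; group⟩
  set O : Finset P :=
    Finset.univ.filter (fun v : P => ∃ t ∈ pairStab P c, t * (v₀ : G) * t⁻¹ = (v : G)) with hO
  have hOcard : O.card = orbitSize P c (v₀ : G) := by
    rw [orbitSize, Nat.card_eq_fintype_card, Fintype.card_subtype]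
  have hmem : ∀ xv ∈ Finset.univ.filter (fun xv => Φ xv = (u, a)), xv.2 ∈ O := by
    rintro ⟨x, v⟩ hxv
    obtain ⟨h1, h2⟩ := Prod.mk.inj (Finset.mem_filter.1 hxv).2
    refine Finset.mem_filter.2 ⟨Finset.mem_univ _, ?_⟩
    have hz : (y * x) * (v : G) * (y * x)⁻¹ = (v₀ : G) := by
      show _ = y * u * y⁻¹
      rw [← h1]; group
    have hb : conjPair (y * x) (b v) = b v₀ := by rw [conjPair_mul, h2, hbv₀]
    have hmor : Mor p M P c (b v).1 (y * x) :=
      ⟨(b v).2, hb2 v, by
        show Relation.ReflTransGen _ (conjPair (y * x) (b v)) _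
        rw [hb]
        exact hb2 v₀⟩
    obtain ⟨s, hs, hsz⟩ := exists_stab hM hmax hab hF (φ := conjHom (b v).1 (y * x))
      ((mem_hom_iff hF).2 ⟨_, fun _ => rfl, hmor⟩)
    have hvmem : (v : G) ∈ (b v).1 := by rw [hb1]; exact Subgroup.mem_zpowers _
    have h3 : (y * x) * (v : G) * (y * x)⁻¹ = s * (v : G) * s⁻¹ := hsz ⟨v, hvmem⟩
    rw [hz] at h3
    exact ⟨s⁻¹, inv_mem hs, by rw [h3]; group⟩
  rw [← Finset.sum_fiberwise_of_maps_to hmem]
  have hconst : ∀ v ∈ O, ∑ xv ∈ (Finset.univ.filter (fun xv => Φ xv = (u, a))).filter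
      (fun xv => xv.2 = v), w xv.2 = ((orbitSize P c (v₀ : G) : ℂ))⁻¹ := by
    intro v hv
    obtain ⟨t, ht, htv⟩ := (Finset.mem_filter.1 hv).2
    have hcard : ((Finset.univ.filter (fun xv => Φ xv = (u, a))).filter
        (fun xv => xv.2 = v)).card = Nat.card (Subgroup.centralizer ((b v).1 : Set G)) := by
      rw [Nat.card_eq_fintype_card, ← Finset.card_univ]
      symm
      refine Finset.card_bij (fun z _ => (y⁻¹ * t⁻¹ * (z : G), v)) (fun z _ => ?_)
        (fun z _ z' _ h => Subtype.ext (mul_left_cancel (Prod.mk.inj h).1)) fun xv hxv => ?_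
      · refine Finset.mem_filter.2 ⟨Finset.mem_filter.2 ⟨Finset.mem_univ _, ?_⟩, rfl⟩
        have hzv : (z : G) * (v : G) * (z : G)⁻¹ = v := by
          rw [← Subgroup.mem_centralizer_iff.1 z.2 v (by rw [hb1]; exact Subgroup.mem_zpowers _),
            mul_inv_cancel_right]
        have hzb : conjPair (z : G) (b v) = b v :=
          mem_pairStab_iff_conjPair.1 (centralizer_le_pairStab _ _ z.2)
        refine Prod.ext ?_ ?_
        · show y⁻¹ * t⁻¹ * (z : G) * (v : G) * (y⁻¹ * t⁻¹ * (z : G))⁻¹ = u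
          calc _ = y⁻¹ * t⁻¹ * ((z : G) * (v : G) * (z : G)⁻¹) * t * y := by group
            _ = _ := by rw [hzv, hu, ← htv]; group
        · show conjPair (y⁻¹ * t⁻¹ * (z : G)) (b v) = a
          rw [conjPair_mul, hzb, ha, conjPair_mul, ← hmove ht htv, ← conjPair_mul t⁻¹,
            inv_mul_cancel, conjPair_one]
      · obtain ⟨x, v'⟩ := xv
        obtain ⟨h, rfl⟩ := Finset.mem_filter.1 hxv
        obtain ⟨h1, -⟩ := Prod.mk.inj (Finset.mem_filter.1 h).2
        refine ⟨⟨t * y * x, ?_⟩, Finset.mem_univ _, Prod.ext ?_ rfl⟩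
        · rw [hb1, Subgroup.zpowers_eq_closure, Subgroup.centralizer_closure,
            Subgroup.mem_centralizer_singleton_iff]
          have h3 : (t * y * x) * (v' : G) * (t * y * x)⁻¹ = v' := by
            calc _ = t * (y * (x * (v' : G) * x⁻¹) * y⁻¹) * t⁻¹ := by group
              _ = t * (y * u * y⁻¹) * t⁻¹ := by rw [h1]
              _ = _ := htv
          exact mul_inv_eq_iff_eq_mul.1 h3
        · show y⁻¹ * t⁻¹ * (t * y * x) = x
          group
    rw [Finset.sum_congr rfl (g := fun _ => w v) fun xv hxv => by rw [(Finset.mem_filter.1 hxv).2],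
      Finset.sum_const, hcard, nsmul_eq_mul]
    simp only [w, horb ht htv, mul_inv]
    rw [mul_inv_cancel_left₀ (Nat.cast_ne_zero.2 Nat.card_pos.ne')]
  rw [Finset.sum_congr rfl hconst, Finset.sum_const, nsmul_eq_mul, hOcard, mul_inv_cancel₀]
  refine Nat.cast_ne_zero.2 ?_
  rw [← hOcard]
  exact Finset.card_ne_zero.2 ⟨v₀, Finset.mem_filter.2 ⟨Finset.mem_univ _, 1, one_mem _, by simp⟩⟩

/-- The trace of `χ ↦ λ * χ` on `B`. -/
theorem trace_eq [Fintype P] {lam : P →* ℂˣ} (hlam : IsInvariantLin P c lam) :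
    ∑ χ ∈ (Set.toFinite B).toFinset,
      classInner (star p M P c (linExt P lam) (χ : G → ℂ)) (χ : G → ℂ) =
    ∑ v : P, ((lam v : ℂˣ) : ℂ) * (localRank p M P c (Subgroup.zpowers (v : G)) : ℂ) /
      (orbitSize P c (v : G) : ℂ) := by
  have := Fintype.ofFinite (BrauerPairIdx G)
  have hF := isBlockFusionSystemOn_blockFusion hM hmax
  have hl := (isFocalChar_linExt hM hmax hab hF hlam).isStableChar
  have hone := isStableChar_one (F := blockFusion hM hmax)
  choose fb hfb hfB hrank using fun v : P => exists_localRank hM hmax (Subgroup.zpowers_le.2 v.2)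
  let b : P → BrauerPairIdx G := fun v => ⟨Subgroup.zpowers (v : G), fb v⟩
  let H : G → BrauerPairIdx G → ℂ := fun u a => if u ∈ a.1 then
    wt p M P c (linExt P lam) u a *
      ∑ χ ∈ (Set.toFinite B).toFinset, partInner p (χ : G → ℂ) (χ : G → ℂ) u a else 0
  have hconj : ∀ x u a, H (x * u * x⁻¹) (conjPair x a) = H u a := by
    intro x u a
    simp only [H]
    have hiff : x * u * x⁻¹ ∈ (conjPair x a).1 ↔ u ∈ a.1 := by
      show x * u * x⁻¹ ∈ a.1.map _ ↔ _
      rw [map_conj_eq]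
      exact iff_of_eq (congrArg (· ∈ a.1) (by group))
    by_cases hu : u ∈ a.1
    · rw [if_pos hu, if_pos (hiff.2 hu), (isWeight_wt hM hF hl).conj x u a hu]
      simp only [partInner_conj]
    · rw [if_neg hu, if_neg fun h => hu (hiff.1 h)]
  have h1 : ∀ χ ∈ (Set.toFinite B).toFinset,
      classInner (star p M P c (linExt P lam) (χ : G → ℂ)) (χ : G → ℂ) =
        (Nat.card G : ℂ)⁻¹ * ∑ t ∈ brauerElts p M B,
          wt p M P c (linExt P lam) t.1 t.2 * partInner p (χ : G → ℂ) (χ : G → ℂ) t.1 t.2 := by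
    intro χ hχ
    have h := classInner_star hM hF hl hone ((Set.Finite.mem_toFinset _).1 hχ) χ
    rw [star_const_one hM hF] at h
    rw [h]
    congr 1
    refine Finset.sum_congr rfl fun t _ => ?_
    rw [show wt p M P c (fun _ => (1 : ℂ)) t.1 t.2 = 1 by rw [wt]; split_ifs <;> rfl, map_one,
      mul_one]
  rw [Finset.sum_congr rfl h1, ← Finset.mul_sum, Finset.sum_comm,
    Finset.sum_congr rfl (g := fun t => H t.1 t.2) fun t ht => by
      simp only [H]
      rw [if_pos ((Finset.mem_filter.1 ht).2.1 ▸ Subgroup.mem_zpowers t.1), Finset.mul_sum],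
    sum_brauerElts_stab hM hmax hab H hconj b (fun _ => rfl) hfb, ← mul_assoc,
    inv_mul_cancel₀ (Nat.cast_ne_zero.2 Nat.card_pos.ne'), one_mul]
  refine Finset.sum_congr rfl fun v _ => ?_
  have hk : ∃ k : ℕ, orderOf (v : G) = p ^ k := by
    obtain ⟨k, hk⟩ := IsPGroup.iff_orderOf.1 hmax.1.1.1 v
    exact ⟨k, by rw [Subgroup.orderOf_coe, hk]⟩
  simp only [H, b, if_pos (Subgroup.mem_zpowers (v : G))]
  rw [sum_partInner hM hk (hfB v), ← hrank v,
    wt_eq hM hF hl (Subgroup.mem_zpowers (v : G)) (x := 1) (by rw [conjPair_one]; exact hfb v)]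
  simp only [one_mul, inv_one, mul_one]
  rw [linExt_coe]
  have hC : (Nat.card (Subgroup.centralizer (Subgroup.zpowers (v : G) : Set G)) : ℂ) ≠ 0 :=
    Nat.cast_ne_zero.2 Nat.card_pos.ne'
  rw [div_eq_mul_inv, mul_inv]
  field_simp

/-- The number of characters by local ranks. -/
theorem card_eq_sum [Fintype P] : (Nat.card B : ℂ) =
    ∑ v : P, (localRank p M P c (Subgroup.zpowers (v : G)) : ℂ) / (orbitSize P c (v : G) : ℂ) := by
  have h := trace_eq hM hmax hab (lam := 1) fun _ _ _ _ _ => rfl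
  simp only [MonoidHom.one_apply, Units.val_one, one_mul] at h
  rw [← h]
  have hF := isBlockFusionSystemOn_blockFusion hM hmax
  have h1 : linExt P (1 : P →* ℂˣ) = fun g => if g ∈ P then 1 else 0 := by
    funext g
    simp [linExt, extP]
  have hfoc := isFocalChar_linExt hM hmax hab hF (lam := 1) fun _ _ _ _ _ => rfl
  rw [Finset.sum_congr rfl (g := fun _ => (1 : ℂ)) fun χ hχ => ?_, Finset.sum_const, nsmul_one,
    Nat.card_coe_set_eq, Set.ncard_eq_toFinset_card B (Set.toFinite B)]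
  have hχB := (Set.Finite.mem_toFinset _).1 hχ
  have h2 : star p M P c (linExt P (1 : P →* ℂˣ)) (χ : G → ℂ) = (χ : G → ℂ) := by
    refine Eq.trans ?_ (star_const_one hM hF χ)
    have hwt : ∀ u (a : BrauerPairIdx G), u ∈ a.1 →
        wt p M P c (linExt P (1 : P →* ℂˣ)) u a = wt p M P c (fun _ => (1 : ℂ)) u a := by
      intro u a hu
      rw [wt, wt]
      split_ifs with h
      · have hmem : h.choose * u * h.choose⁻¹ ∈ P :=
          le_of_subpairLE h.choose_spec ⟨u, hu, rfl⟩
        rw [h1]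
        simp [hmem]
      · rfl
    funext g
    obtain ⟨u, s, hk, hs, hc, rfl⟩ := exists_decomp (p := p) g
    have hsC : s ∈ Subgroup.centralizer (Subgroup.zpowers u : Set G) := by
      refine Subgroup.mem_centralizer_iff.2 fun z hz => ?_
      obtain ⟨n, rfl⟩ := Subgroup.mem_zpowers_iff.1 hz
      exact (hc.zpow_left n).eq
    have := Fintype.ofFinite {f : Set (IrrCharacter
      (Subgroup.centralizer (Subgroup.zpowers u : Set G))) // IsPBlock M f}
    have hs' : ¬ p ∣ orderOf (⟨s, hsC⟩ : Subgroup.centralizer (Subgroup.zpowers u : Set G)) := by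
      rwa [Subgroup.orderOf_mk]
    rw [show u * s = u * ((⟨s, hsC⟩ : Subgroup.centralizer (Subgroup.zpowers u : Set G)) : G) from rfl,
      star_eq_sum_blockPart hM hF hfoc.isStableChar χ hk hs',
      star_eq_sum_blockPart hM hF (isStableChar_one (F := blockFusion hM hmax)) χ hk hs']
    exact Finset.sum_congr rfl fun f _ => by rw [hwt u _ (Subgroup.mem_zpowers u)]
  rw [h2, classInner_irr_self]

/-- A nontrivial invariant character has no fixed points, so the weighted sum vanishes. -/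
theorem sum_eq_zero [Fintype P] {lam : P →* ℂˣ} (hlam : IsInvariantLin P c lam) (hne : lam ≠ 1) :
    ∑ v : P, ((lam v : ℂˣ) : ℂ) * (localRank p M P c (Subgroup.zpowers (v : G)) : ℂ) /
      (orbitSize P c (v : G) : ℂ) = 0 := by
  rw [← trace_eq hM hmax hab hlam]
  have hF := isBlockFusionSystemOn_blockFusion hM hmax
  have hfoc := isFocalChar_linExt hM hmax hab hF hlam
  refine Finset.sum_eq_zero fun χ hχ => ?_
  have hχB := (Set.Finite.mem_toFinset _).1 hχ
  refine classInner_irr_of_ne (χ := starIrr hM hF hfoc χ) fun hfix => hne ?_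
  refine MonoidHom.ext fun v => ?_
  obtain ⟨f, hle, hfB, -⟩ := exists_localRank hM hmax (Subgroup.zpowers_le.2 v.2)
  have hk : ∃ k : ℕ, orderOf (v : G) = p ^ k := by
    obtain ⟨k, hk⟩ := IsPGroup.iff_orderOf.1 hmax.1.1.1 v
    exact ⟨k, by rw [Subgroup.orderOf_coe, hk]⟩
  have hcv : (v : G) ∈ Subgroup.centralizer (P : Set G) :=
    Subgroup.mem_centralizer_iff.2 fun z hz => hab z hz v v.2
  have h := lam_eq_one_of_fixed hM hF hfoc (χ := χ)
    (congrArg (fun ψ : IrrCharacter G => (ψ : G → ℂ)) hfix) hk hfB.1.2 hle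
    (exists_part_ne_zero_major hM hk
      (by rw [Subgroup.zpowers_eq_closure, Subgroup.centralizer_closure])
      (isInducedBlock_of_pairOf hM hfB) (blockDefect_eq_of_central hM hmax hcv hle) hχB)
  rw [linExt_coe, Units.val_eq_one] at h
  exact h

end CfsgLib.Watanabe
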